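import Groth.Agent.H16Derived.PnD.PC
import Groth.Agent.H16Derived.Exchange.ProjBound
import Groth.Agent.H16Derived.Stupid
import Groth.Agent.H16Derived.QRep.Main
import Groth.Agent.H16Derived.GenAmpleGamma
import Groth.Agent.H11Ample.Converse

/-!
# Serre vanishing for complexes of sums of negative twists
-/

set_option autoImplicit false
set_option linter.style.haveILetI false
set_option linter.unusedSectionVars false
set_option backward.isDefEq.respectTransparency false

universe u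

open CategoryTheory CategoryTheory.Limits CategoryTheory.Pretriangulated AlgebraicGeometry
open DerivedCategory.TStructure (t)

attribute [local instance] HasDerivedCategory.standard

noncomputable section

namespace Groth.Agent.H16Derived.TwistVanish

open Groth.Agent.H16Derived.KFlat Groth.Agent.H16Derived.KFlat.Stalk Groth.Agent.H16Derived.QCohD
open Groth.Agent.H22Alg Groth.Agent.H22Alg.PB Groth.Agent.H16Derived.GenAmple

section Gen

variable {A : Type*} [Category A] [Abelian A]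

/-- Splitting off the top term. -/
theorem exists_top_step (F : CochainComplex A ℤ) (a b : ℤ) [F.IsStrictlyLE a] (P : A → Prop)
    (hiso : ∀ {X Y : A} (_ : X ≅ Y), P X → P Y) (h0 : ∀ Z : A, IsZero Z → P Z) (hP : ∀ i, P (F.X i))
    (hb : ∀ i, i < b → IsZero (F.homology i)) :
    ∃ (M : A) (Q : CochainComplex A ℤ)
      (f : (HomologicalComplex.single A (ComplexShape.up ℤ) a).obj M ⟶ F) (g : F ⟶ Q) (w : f ≫ g = 0),
      (ShortComplex.mk f g w).ShortExact ∧ P M ∧ Q.IsStrictlyLE (a - 1) ∧ (∀ i, P (Q.X i)) ∧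
        ∀ i, i < min b (a - 1) → IsZero (Q.homology i) := by
  let ι := Stupid.ι F a
  haveI : Mono ι := HomologicalComplex.mono_of_mono_f _ fun p => by
    rcases lt_or_ge p a with h | h
    · exact ⟨fun g g' _ => (Stupid.isZero_X F a p h).eq_of_tgt _ _⟩
    · haveI := Stupid.isIso_ι_f F a p h
      infer_instance
  haveI : (Stupid.σ F a).IsStrictlyGE a :=
    (CochainComplex.isStrictlyGE_iff _ _).2 fun i hi => Stupid.isZero_X F a i hi
  haveI : (Stupid.σ F a).IsStrictlyLE a := (CochainComplex.isStrictlyLE_iff _ _).2 fun i hi => by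
    haveI := Stupid.isIso_ι_f F a i hi.le
    exact IsZero.of_iso (F.isZero_of_isStrictlyLE a i hi) (asIso (ι.f i))
  obtain ⟨M, ⟨e⟩⟩ := CochainComplex.exists_iso_single (Stupid.σ F a) a
  let f := e.inv ≫ ι
  let S := ShortComplex.mk f (cokernel.π f) (cokernel.condition f)
  have hS : S.ShortExact := { exact := ShortComplex.exact_cokernel f }
  have hf : ∀ p, a ≤ p → IsIso (f.f p) := fun p hp => by
    haveI := Stupid.isIso_ι_f F a p hp
    exact inferInstanceAs (IsIso (e.inv.f p ≫ ι.f p))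
  have hSp : ∀ p, (S.map (HomologicalComplex.eval _ _ p)).ShortExact := fun p => hS.map_of_exact _
  have hQz : ∀ p, a ≤ p → IsZero (S.X₃.X p) := fun p hp => by
    haveI := hf p hp
    haveI : Epi (S.map (HomologicalComplex.eval _ _ p)).g := (hSp p).epi_g
    refine IsZero.of_epi_eq_zero (S.map (HomologicalComplex.eval _ _ p)).g ?_
    refine (cancel_epi (f.f p)).1 ?_
    rw [comp_zero]
    exact (S.map (HomologicalComplex.eval _ _ p)).zero
  refine ⟨M, S.X₃, f, cokernel.π f, cokernel.condition f, hS, ?_,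
    (CochainComplex.isStrictlyLE_iff _ _).2 fun i hi => hQz i (by omega), fun p => ?_, fun i hi => ?_⟩
  · haveI := hf a le_rfl
    exact hiso ((asIso (f.f a)).symm ≪≫ HomologicalComplex.singleObjXSelf (ComplexShape.up ℤ) a M) (hP a)
  · rcases lt_or_ge p a with h | h
    · haveI : IsIso (S.map (HomologicalComplex.eval _ _ p)).g :=
        (hSp p).isIso_g_iff.2 (HomologicalComplex.isZero_single_obj_X (ComplexShape.up ℤ) a M p (by omega))
      exact hiso (asIso (S.map (HomologicalComplex.eval _ _ p)).g) (hP p)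
    · exact h0 _ (hQz p h)
  · refine (hS.homology_exact₃ i (i + 1) (by simp)).isZero_of_both_zeros
      ((hb i (by omega)).eq_of_src _ _) ?_
    exact (HomologicalComplex.isZero_single_obj_homology _ _ M (i + 1) (by omega)).eq_of_tgt _ _

end Gen

variable (r : ℕ) (Y : Scheme.{u})

/-- The twists. -/
abbrev O (d : ℤ) : (CohB1.ProjSpaceOver r Y).Modules := Twist.twistOver r Y d

/-- The projection. -/
abbrev π : CohB1.ProjSpaceOver r Y ⟶ Y := CohB1.ProjSpaceOver.toBase r Y

theorem hO : H10Coh.Stab.IsTwistFamily (O r Y) := (PnD.isPn r Y).tw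

/-- The family with one member. -/
abbrev Fam : PUnit.{u + 1} → (CohB1.ProjSpaceOver r Y).Modules := fun _ => O r Y 1

theorem isAmpleFamily [IsAffine Y] : KSix.IsAmpleFamily (Fam r Y) := by
  obtain ⟨hc, hA⟩ := H11Ample.isAmple_twistOver (Y := Y) r
  haveI : CompactSpace (CohB1.ProjSpaceOver r Y) := hc
  haveI : (CohB1.ProjSpaceOver r Y).IsSeparated := H17.AmpleSep.isSeparated_of_isAmple hA
  refine ⟨hc, inferInstance, fun _ => hA.1, fun x => ?_⟩
  obtain ⟨n, s, h⟩ := hA.2.2 x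
  exact ⟨⟨⟩, n, s, h⟩

variable {r Y}

/-- The twisted complex. -/
abbrev twC (n : ℤ) (F : CochainComplex (CohB1.ProjSpaceOver r Y).Modules ℤ) :
    CochainComplex (CohB1.ProjSpaceOver r Y).Modules ℤ :=
  ((tw (O r Y n)).mapHomologicalComplex (ComplexShape.up ℤ)).obj F

theorem nonempty_tw_negPower {N : (CohB1.ProjSpaceOver r Y).Modules} (hN : KSix.IsNegPower (Fam r Y) N) :
    ∃ k : ℕ, ∀ n : ℤ, Nonempty ((tw (O r Y n)).obj N ≅ O r Y (n - k)) := by
  obtain ⟨i, k, -, ⟨e⟩⟩ := hN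
  obtain ⟨a⟩ := (hO r Y).nonempty_tensorPow k
  refine ⟨k, fun n => ?_⟩
  obtain ⟨b⟩ := (hO r Y).add (k : ℤ) (n - k)
  exact ⟨PicGrp.tensorModIso (Iso.refl N) (eqToIso (congrArg (O r Y) (show n = (k : ℤ) + (n - k) by omega)) ≪≫ b.symm) ≪≫
    (H11Ample.tensorAssocIso N (O r Y k) (O r Y (n - k))).symm ≪≫
    PicGrp.tensorModIso (PicGrp.tensorModIso (Iso.refl N) a.symm ≪≫ e) (Iso.refl _) ≪≫
    H11Ample.tensorLeftUnitIso _⟩

variable [IsAffine Y] [DCoh.HasRpush (π r Y)]

theorem isLE_push_twist {d : ℤ} (hd : 0 ≤ d) :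
    ((DCoh.Rpush (π r Y)).obj (DCoh.inD _ (O r Y d))).IsLE 0 := by
  obtain ⟨a⟩ := PnD.nonempty_rpush_inD (π r Y) (O r Y d) fun p hp =>
    (PnD.isPn r Y).van_O (d := d) (i := p) (by omega) (by omega)
  exact t.isLE_of_iso a.symm 0

theorem exists_isLE_single {M : (CohB1.ProjSpaceOver r Y).Modules} (hM : KSix.InAddL (Fam r Y) M) :
    ∃ N : ℤ, ∀ n, N ≤ n → ((DCoh.Rpush (π r Y)).obj (DCoh.inD _ ((tw (O r Y n)).obj M))).IsLE 0 := by
  classical
  obtain ⟨m, K, hK, ⟨e⟩⟩ := hM
  choose k hk using fun j => nonempty_tw_negPower (hK j)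
  refine ⟨((Finset.univ.sup k : ℕ) : ℤ), fun n hn => ?_⟩
  letI := rpushCommShift (π r Y)
  haveI := rpush_isTriangulated (π r Y)
  let Ψ := tw (O r Y n) ⋙ DerivedCategory.singleFunctor _ 0 ⋙ DCoh.Rpush (π r Y)
  rw [DerivedCategory.isLE_iff]
  intro i hi
  let Φ := Ψ ⋙ DerivedCategory.homologyFunctor _ i
  refine IsZero.of_iso ?_ (Φ.mapIso e ≪≫ Φ.mapBiproduct K)
  rw [IsZero.iff_id_eq_zero]
  refine biproduct.hom_ext _ _ fun j => ?_
  refine IsZero.eq_of_tgt ?_ _ _
  obtain ⟨a⟩ := hk j n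
  haveI := isLE_push_twist (r := r) (Y := Y) (d := n - k j) (by
    have := Finset.le_sup (f := k) (Finset.mem_univ j)
    omega)
  exact IsZero.of_iso (DerivedCategory.isZero_of_isLE _ 0 i hi)
    ((DerivedCategory.homologyFunctor _ i).mapIso ((DCoh.Rpush (π r Y)).mapIso
      ((DerivedCategory.singleFunctor _ 0).mapIso a)))

/-- The shape of the resolution. -/
structure Shape (F : CochainComplex (CohB1.ProjSpaceOver r Y).Modules ℤ) (a b : ℤ) : Prop where
  le : F.IsStrictlyLE a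
  terms : ∀ i, KSix.InAddL (Fam r Y) (F.X i)
  ge : ∀ i, i < b → IsZero (F.homology i)

theorem isQCoh_twC {F : CochainComplex (CohB1.ProjSpaceOver r Y).Modules ℤ}
    (hF : ∀ i, KSix.InAddL (Fam r Y) (F.X i)) (n i : ℤ) : Coh.IsQCoh ((twC n F).X i) :=
  H8Props.FinLocFree.isQCoh_of_isFinLocFree _ (isFinLocFree_tensor
    (QRep.isFinLocFree_of_inAddL (isAmpleFamily r Y) (hF i)) (KModel.finLocFree_invertible ((hO r Y).inv n)))

theorem isGE_twC {F : CochainComplex (CohB1.ProjSpaceOver r Y).Modules ℤ} {b : ℤ}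
    (hF : ∀ i, i < b → IsZero (F.homology i)) (n : ℤ) : (DerivedCategory.Q.obj (twC n F)).IsGE b := by
  haveI := (exact_tw (L := O r Y n) ((hO r Y).inv n)).1
  haveI := (exact_tw (L := O r Y n) ((hO r Y).inv n)).2
  rw [DerivedCategory.isGE_iff]
  intro i hi
  exact IsZero.of_iso ((tw (O r Y n)).map_isZero (hF i hi))
    ((DerivedCategory.homologyFunctorFactors _ i).app _ ≪≫ (F.sc i).mapHomologyIso (tw (O r Y n)))

theorem isLE_push_single_shift {M : (CohB1.ProjSpaceOver r Y).Modules} {n : ℤ}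
    (h : ((DCoh.Rpush (π r Y)).obj (DCoh.inD _ ((tw (O r Y n)).obj M))).IsLE 0) (a : ℤ) :
    ((DCoh.Rpush (π r Y)).obj (DerivedCategory.Q.obj
      (twC n ((HomologicalComplex.single _ (ComplexShape.up ℤ) a).obj M)))).IsLE a := by
  letI := rpushCommShift (π r Y)
  haveI : t.IsLE ((DCoh.Rpush (π r Y)).obj (DCoh.inD _ ((tw (O r Y n)).obj M))) 0 := h
  haveI : t.IsLE (((DCoh.Rpush (π r Y)).obj (DCoh.inD _ ((tw (O r Y n)).obj M)))⟦-a⟧) a :=
    t.isLE_shift _ 0 (-a) a (by omega)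
  let key : DerivedCategory.Q.obj (twC n ((HomologicalComplex.single _ (ComplexShape.up ℤ) a).obj M)) ≅
      (DCoh.inD _ ((tw (O r Y n)).obj M))⟦-a⟧ :=
    DerivedCategory.Q.mapIso ((HomologicalComplex.singleMapHomologicalComplex (tw (O r Y n))
        (ComplexShape.up ℤ) a).app M) ≪≫
      (((DerivedCategory.singleFunctors _).shiftIso (-a) a 0 (by omega)).app _).symm
  haveI : t.IsLE ((DCoh.Rpush (π r Y) ⋙ shiftFunctor (DCoh.D Y) (-a)).obj
    (DCoh.inD (CohB1.ProjSpaceOver r Y) ((tw (O r Y n)).obj M))) a :=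
    inferInstanceAs (t.IsLE (((DCoh.Rpush (π r Y)).obj (DCoh.inD _ ((tw (O r Y n)).obj M)))⟦-a⟧) a)
  exact t.isLE_of_iso ((((DCoh.Rpush (π r Y)).commShiftIso (-a)).app _).symm ≪≫
    ((DCoh.Rpush (π r Y)).mapIso key).symm) a

theorem isLE_obj₂_twist {M : (CohB1.ProjSpaceOver r Y).Modules} {n a c : ℤ}
    {Q F : CochainComplex (CohB1.ProjSpaceOver r Y).Modules ℤ}
    {f : (HomologicalComplex.single _ (ComplexShape.up ℤ) a).obj M ⟶ F} {g : F ⟶ Q} {w : f ≫ g = 0}
    (hS : (ShortComplex.mk f g w).ShortExact) (hac : a ≤ c)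
    (h₁ : ((DCoh.Rpush (π r Y)).obj (DCoh.inD _ ((tw (O r Y n)).obj M))).IsLE 0)
    (h₃ : ((DCoh.Rpush (π r Y)).obj (DerivedCategory.Q.obj (twC n Q))).IsLE c) :
    ((DCoh.Rpush (π r Y)).obj (DerivedCategory.Q.obj (twC n F))).IsLE c := by
  letI := rpushCommShift (π r Y)
  haveI := rpush_isTriangulated (π r Y)
  haveI := (exact_tw (L := O r Y n) ((hO r Y).inv n)).1
  haveI := (exact_tw (L := O r Y n) ((hO r Y).inv n)).2
  have hSn := hS.map_of_exact ((tw (O r Y n)).mapHomologicalComplex (ComplexShape.up ℤ))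
  refine t.isLE₂ _ ((DCoh.Rpush (π r Y)).map_distinguished _ (DerivedCategory.triangleOfSES_distinguished hSn)) c ?_ h₃
  haveI : t.IsLE ((DCoh.Rpush (π r Y)).obj (DerivedCategory.Q.obj
      (twC n ((HomologicalComplex.single _ (ComplexShape.up ℤ) a).obj M)))) a := isLE_push_single_shift h₁ a
  exact t.isLE_of_le ((DCoh.Rpush (π r Y)).obj (DerivedCategory.Q.obj
    (twC n ((HomologicalComplex.single _ (ComplexShape.up ℤ) a).obj M)))) a c hac

theorem isStrictlyLE_twC (F : CochainComplex (CohB1.ProjSpaceOver r Y).Modules ℤ) (a : ℤ) [F.IsStrictlyLE a]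
    (n : ℤ) : (twC n F).IsStrictlyLE a := by
  refine (CochainComplex.isStrictlyLE_iff _ _).2 fun i hi => ?_
  have h : IsZero ((tw (O r Y n)).obj (F.X i)) := (tw (O r Y n)).map_isZero (F.isZero_of_isStrictlyLE a i hi)
  exact h

theorem exists_isLE_twist : ∀ (j d : ℕ), r ≤ d + j → ∀ (F : CochainComplex (CohB1.ProjSpaceOver r Y).Modules ℤ)
    (a b : ℤ), Shape F a b →
      ∃ N : ℤ, ∀ n, N ≤ n → ((DCoh.Rpush (π r Y)).obj (DerivedCategory.Q.obj (twC n F))).IsLE (a + d) := by
  haveI : IsProper (π r Y) := H27Weil.isProper_toBase r Y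
  intro j
  induction j with
  | zero =>
    intro d hd F a b hF
    refine ⟨0, fun n _ => (DerivedCategory.isLE_iff _ _).2 fun m hm => ?_⟩
    haveI := hF.le
    haveI : (twC n F).IsStrictlyLE a := isStrictlyLE_twC F a n
    haveI := isGE_twC hF.ge n
    haveI : (DerivedCategory.Q.obj (twC n F)).IsLE a := inferInstance
    refine vanish_isGE _ (Exchange.bound_toBase Y r) (DerivedCategory.Q.obj (twC n F)) b a (fun i => ?_) m
      (by push_cast; omega)
    exact isQCoh_iso ((DerivedCategory.homologyFunctorFactors _ i).app _).symm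
      (QRep.isQCoh_homology' _ (isQCoh_twC hF.terms n) i)
  | succ j ih =>
    intro d hd F a b hF
    haveI := hF.le
    obtain ⟨M, Q, f, g, w, hS, hM, hQ, hQt, hQg⟩ := exists_top_step F a b (KSix.InAddL (Fam r Y))
      (fun e h => QRep.inAddL_of_iso e h) (fun _ h => QRep.inAddL_of_isZero h) hF.terms hF.ge
    obtain ⟨N₁, h₁⟩ := exists_isLE_single hM
    obtain ⟨N₃, h₃⟩ := ih (d + 1) (by omega) Q (a - 1) (min b (a - 1)) ⟨hQ, hQt, hQg⟩
    refine ⟨max N₁ N₃, fun n hn => isLE_obj₂_twist hS (by omega) (h₁ n (le_of_max_le_left hn)) ?_⟩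
    have h := h₃ n (le_of_max_le_right hn)
    rwa [show a - 1 + ((d + 1 : ℕ) : ℤ) = a + d by push_cast; omega] at h

end Groth.Agent.H16Derived.TwistVanish
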