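import Groth.Agent.H16Derived.TwistVanish.Induct
import Groth.Agent.H16Derived.BaseChange.FinitePC
import Groth.Agent.H8Props.RpushAffine
import Groth.Agent.H10Coh.ProjFormulaFLF
import Groth.Agent.H25FM.Calc

/-!
# Direct images of high twists
-/

set_option autoImplicit false
set_option linter.style.haveILetI false
set_option linter.unusedSectionVars false
set_option backward.isDefEq.respectTransparency false

universe u

open CategoryTheory CategoryTheory.Limits CategoryTheory.Pretriangulated AlgebraicGeometry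
open DerivedCategory.TStructure (t)

attribute [local instance] HasDerivedCategory.standard

noncomputable section

namespace Groth.Agent.H16Derived.TwistVanish

open Groth.Agent.H16Derived.KFlat Groth.Agent.H16Derived.KFlat.Stalk Groth.Agent.H16Derived.QCohD
open Groth.Agent.H22Alg Groth.Agent.H22Alg.PB Groth.Agent.H16Derived.GenAmple
open Groth.Agent.H8Props Groth.Agent.H8Props.PushPC

variable {r : ℕ} {Y : Scheme.{u}} [IsAffine Y] [DCoh.HasRpush (π r Y)]

/-- Pseudo-coherent bounded objects have resolutions by sums of negative twists. -/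
theorem exists_shape (G : DCoh.D (CohB1.ProjSpaceOver r Y)) (hG : ∀ k : ℤ, DCoh.IsPseudoCoherentD k G)
    (a b : ℤ) [G.IsLE a] [G.IsGE b] :
    ∃ F, Shape F a b ∧ Nonempty (DerivedCategory.Q.obj F ≅ G) := by
  have hL := isAmpleFamily r Y
  have hres := QRep.hasResolutionProperty_of_isAmpleFamily hL
  haveI := hL.1
  haveI := hL.2.1
  obtain ⟨F, hFb, hFa, hFq, ⟨e⟩⟩ := QRep.exists_qcoh_rep
    (fun U V hU hV => H14ResProp.AffineDiag.isAffineOpen_inf hres hU hV) G b a (BaseChange.isQCohD_of_pc hG)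
  haveI := hFa
  haveI := hFb
  have hpc : ∀ k, DCoh.IsPseudoCoherentD k (DCoh.toD _ F) := fun k => isPseudoCoherentD_of_iso e.symm (hG k)
  obtain ⟨E, φ, hE, hP, hφ⟩ := QRep.exists_resolution (P := KSix.InAddL (Fam r Y)) (F := F) (b₀ := a)
    (fun e h => QRep.inAddL_of_iso e h) (fun _ h => QRep.inAddL_of_isZero h)
    (fun i hi => (HomologicalComplex.exactAt_iff_isZero_homology _ _).1
      (HomologicalComplex.ExactAt.of_isZero (F.isZero_of_isStrictlyLE a i hi)))
    (QRep.canStep (fun _ h => QRep.isFinLocFree_of_inAddL hL h)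
      (fun M hM hM' => AmpleNegQuot.exists_inAddL_epi hL hM hM') F hFq hpc a)
  haveI := hφ
  refine ⟨E, ⟨hE, hP, fun i hi => ?_⟩, ?_⟩
  · haveI : IsIso (HomologicalComplex.homologyMap φ i) := inferInstance
    exact IsZero.of_iso ((HomologicalComplex.exactAt_iff_isZero_homology _ _).1
      (HomologicalComplex.ExactAt.of_isZero (F.isZero_of_isStrictlyGE b i hi)))
      (asIso (HomologicalComplex.homologyMap φ i))
  · haveI : IsIso (DerivedCategory.Q.map φ) := isIso_Q_map _ hφ
    exact ⟨asIso (DerivedCategory.Q.map φ) ≪≫ e⟩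

/-- Direct images of high twists of a pseudo-coherent bounded object. -/
theorem exists_bound (G : DCoh.D (CohB1.ProjSpaceOver r Y)) (hG : ∀ k : ℤ, DCoh.IsPseudoCoherentD k G)
    (a b : ℤ) [G.IsLE a] [G.IsGE b] :
    ∃ N : ℤ, ∀ n, N ≤ n → ∀ [PreservesFiniteLimits (tw (O r Y n))] [PreservesFiniteColimits (tw (O r Y n))],
      (∀ m : ℤ, DCoh.IsPseudoCoherentD m ((DCoh.Rpush (π r Y)).obj ((tw (O r Y n)).mapDerivedCategory.obj G))) ∧
        ((DCoh.Rpush (π r Y)).obj ((tw (O r Y n)).mapDerivedCategory.obj G)).IsLE a := by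
  obtain ⟨F, hF, ⟨e⟩⟩ := exists_shape G hG a b
  obtain ⟨N, hN⟩ := exists_isLE_twist r 0 (by omega) F a b hF
  refine ⟨N, fun n hn _ _ => ⟨?_, ?_⟩⟩
  · haveI : ∀ d, PreservesFiniteLimits (PnD.lw (O r Y d)) := fun d => (PnD.exact_lw ((hO r Y).inv d)).1
    haveI : ∀ d, PreservesFiniteColimits (PnD.lw (O r Y d)) := fun d => (PnD.exact_lw ((hO r Y).inv d)).2
    obtain ⟨i⟩ := PnD.nonempty_mapDerived_iso (PnD.lwIso (O r Y n)) G
    exact fun m => isPseudoCoherentD_of_iso ((DCoh.Rpush (π r Y)).mapIso i)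
      (PnD.allPC_push_twist (PnD.isPn r Y) n hG m)
  · have h := hN n hn
    rw [Nat.cast_zero, add_zero] at h
    haveI : t.IsLE ((DCoh.Rpush (π r Y)).obj
        (((tw (O r Y n)).mapHomologicalComplex (ComplexShape.up ℤ) ⋙ DerivedCategory.Q).obj F)) a := h
    exact t.isLE_of_iso ((DCoh.Rpush (π r Y)).mapIso (((tw (O r Y n)).mapDerivedCategoryFactors.app F).symm ≪≫
      (tw (O r Y n)).mapDerivedCategory.mapIso e)) a

/-- Twisting commutes with the direct image along a closed immersion. -/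
def twPushIso {X P : Scheme.{u}} (i : X ⟶ P) {L : P.Modules} (hL : FlatMod.IsFinLocFree L) :
    Scheme.Modules.pushforward i ⋙ tw L ≅ tw ((Scheme.Modules.pullback i).obj L) ⋙ Scheme.Modules.pushforward i :=
  haveI : ∀ M, IsIso (ProjFormula.ψ i M L) := fun M => H10Coh.PF.isIso_ψ_of_isFinLocFree i hL M
  NatIso.ofComponents (fun M => asIso (ProjFormula.ψ i M L)) fun {_ _} g => ProjFormula.ψ_naturality_left i g L

theorem main {X : Scheme.{u}} (i : X ⟶ CohB1.ProjSpaceOver r Y) [IsClosedImmersion i]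
    [DCoh.HasRpush i] [DCoh.HasRpush (i ≫ π r Y)]
    [∀ n : ℤ, DCoh.HasLTensorMod ((Scheme.Modules.pullback i).obj (O r Y n))]
    (E : DCoh.D X) (a b : ℤ) [E.IsGE b] [E.IsLE a]
    (hE : ∀ m : ℤ, DCoh.IsPseudoCoherentD m ((DCoh.Rpush i).obj E)) :
    ∃ N : ℤ, ∀ n : ℤ, N ≤ n →
      (∀ m : ℤ, DCoh.IsPseudoCoherentD m ((DCoh.Rpush (i ≫ π r Y)).obj
        ((DCoh.LTensorMod ((Scheme.Modules.pullback i).obj (O r Y n))).obj E))) ∧
      ((DCoh.Rpush (i ≫ π r Y)).obj
        ((DCoh.LTensorMod ((Scheme.Modules.pullback i).obj (O r Y n))).obj E)).IsLE a := by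
  obtain ⟨c⟩ := RpushAffine.nonempty_rpush_closed i E
  haveI : ((pushD i).obj E).IsLE a := isLE_pushD i E a
  haveI : ((pushD i).obj E).IsGE b := (DerivedCategory.isGE_iff _ _).2 fun j hj => IsZero.of_iso
    ((Scheme.Modules.pushforward i).map_isZero (DerivedCategory.isZero_of_isGE E b j hj)) (hdPushD i E j)
  obtain ⟨N, hN⟩ := exists_bound ((pushD i).obj E) (fun k => isPseudoCoherentD_of_iso c (hE k)) a b
  refine ⟨N, fun n hn => ?_⟩
  let L := O r Y n
  have hL : PicF.IsInvertible L := (hO r Y).inv n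
  have hL' : PicF.IsInvertible ((Scheme.Modules.pullback i).obj L) := H11Ample.isInvertible_pullback i hL
  haveI := (exact_tw (L := L) hL).1
  haveI := (exact_tw (L := L) hL).2
  haveI := (exact_tw (L := (Scheme.Modules.pullback i).obj L) hL').1
  haveI := (exact_tw (L := (Scheme.Modules.pullback i).obj L) hL').2
  obtain ⟨h1, h2⟩ := hN n hn
  obtain ⟨x⟩ := nonempty_ltensorMod_tw ((Scheme.Modules.pullback i).obj L) E
  let E' := (tw ((Scheme.Modules.pullback i).obj L)).mapDerivedCategory.obj E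
  obtain ⟨c'⟩ := RpushAffine.nonempty_rpush_closed i E'
  obtain ⟨α⟩ := PnD.nonempty_mapDerived_comp (Scheme.Modules.pushforward i) (tw L)
    (twPushIso i (KModel.finLocFree_invertible hL)) E
  obtain ⟨β⟩ := PnD.nonempty_mapDerived_comp (tw ((Scheme.Modules.pullback i).obj L)) (Scheme.Modules.pushforward i)
    (Iso.refl (tw ((Scheme.Modules.pullback i).obj L) ⋙ Scheme.Modules.pushforward i)) E
  obtain ⟨γ⟩ := H25FM.nonempty_rpush_comp i (π r Y) (i ≫ π r Y) rfl
  let w : (DCoh.Rpush (π r Y)).obj ((tw L).mapDerivedCategory.obj ((pushD i).obj E)) ≅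
      (DCoh.Rpush (i ≫ π r Y)).obj ((DCoh.LTensorMod ((Scheme.Modules.pullback i).obj L)).obj E) :=
    (DCoh.Rpush (π r Y)).mapIso (α ≪≫ β.symm ≪≫ c'.symm) ≪≫ γ.app _ ≪≫ (DCoh.Rpush (i ≫ π r Y)).mapIso x.symm
  refine ⟨fun m => isPseudoCoherentD_of_iso w (h1 m), ?_⟩
  haveI : t.IsLE ((DCoh.Rpush (π r Y)).obj ((tw L).mapDerivedCategory.obj ((pushD i).obj E))) a := h2
  exact t.isLE_of_iso w a

end Groth.Agent.H16Derived.TwistVanish
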